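import Groth.Agent.DimFormula.Trdeg
import Groth.Agent.DimFormula.Catenary
import Groth.Agent.FlatLoc6.SerreNormal
import Groth.Prelude.Def_EGA4b

/-!
# Finiteness of `A^(1)` from a finite normalization
-/

set_option autoImplicit false
set_option linter.style.haveILetI false

namespace Groth.Agent.SecFin

universe u

open Order

theorem fd_eq_zero_of_finite (A : Type u) {B : Type u} [CommRing A] [CommRing B] [Algebra A B] [Module.Finite A B]
    (P : Ideal B) [P.IsPrime] : DimFormula.fd A P = 0 := by
  haveI : Algebra.FiniteType A B := inferInstance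
  haveI : Module.Finite A (B ⧸ P) := Module.Finite.trans B _
  haveI : IsArtinianRing ((P.under A).Fiber (B ⧸ P)) := IsArtinianRing.of_finite (P.under A).ResidueField _
  haveI : IsDomain ((P.under A).Fiber (B ⧸ P)) := FibDim.isDomain_fiber_quotient P
  have h := DimFormula.coe_fd A P
  rw [ringKrullDim_eq_zero_of_isField (IsArtinianRing.isField_of_isDomain _)] at h
  exact_mod_cast h.symm

/-- A subalgebra inside `A^(1)` is finite when `A` is universally catenary with finite normalization. -/
theorem finite_of_le_heightOneHull (B : Type u) [CommRing B] [IsDomain B] [IsNoetherianRing B]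
    (hB : CAlg.IsUniversallyCatenary B) (hint : Module.Finite B (integralClosure B (FractionRing B)))
    (T : Subalgebra B (FractionRing B)) (hT : (T : Set (FractionRing B)) ⊆ EGA4.heightOneHull B) :
    Module.Finite B T := by
  let K := FractionRing B
  let N := integralClosure B K
  haveI := hint
  haveI : IsNoetherianRing N := IsNoetherianRing.of_finite B N
  haveI : IsFractionRing N K := integralClosure.isFractionRing_of_finite_extension K K
  haveI : IsIntegrallyClosed N := integralClosure.isIntegrallyClosedOfFiniteExtension K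
  haveI : FaithfulSMul B N := (faithfulSMul_iff_algebraMap_injective B N).2 fun a b h =>
    IsFractionRing.injective B K (congrArg (fun n : N => (n : K)) h)
  have hnorm : ∀ (p : Ideal N) [p.IsPrime],
      IsDomain (Localization.AtPrime p) ∧ IsIntegrallyClosed (Localization.AtPrime p) := fun p _ =>
    ⟨IsLocalization.isDomain_localization p.primeCompl_le_nonZeroDivisors,
      isIntegrallyClosed_of_isLocalization _ p.primeCompl p.primeCompl_le_nonZeroDivisors⟩
  obtain ⟨-, hS2⟩ := FlatLoc6.R1_S2_of_normal hnorm
  suffices hle : T ≤ N from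
    Module.Finite.of_injective (Subalgebra.inclusion hle).toLinearMap (Subalgebra.inclusion_injective hle)
  intro x hx
  obtain ⟨c, d, hd, rfl⟩ := IsFractionRing.div_surjective (A := N) x
  have hd0 : (d : N) ≠ 0 := nonZeroDivisors.ne_zero hd
  have hreg : IsSMulRegular N d := fun u v h => mul_left_cancel₀ hd0 h
  by_contra hne
  have hz : (Submodule.Quotient.mk c : QuotSMulTop d N) ≠ 0 := by
    intro h0
    rw [Submodule.Quotient.mk_eq_zero] at h0
    obtain ⟨w, -, hw⟩ := h0
    refine hne ?_
    have : algebraMap N K c = algebraMap N K d * algebraMap N K w := by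
      rw [← map_mul]
      exact congrArg _ hw.symm
    rw [this, mul_div_cancel_left₀ _ fun h => hd0 (IsFractionRing.injective N K (h.trans (map_zero _).symm))]
    exact w.2
  obtain ⟨P, hP, hann⟩ := Alg6.exists_ass_ge (R := N) hz
  haveI := hP.isPrime
  have hdP : d ∈ P := hann d (by
    rw [← Submodule.Quotient.mk_smul, Submodule.Quotient.mk_eq_zero]
    exact ⟨c, Submodule.mem_top, rfl⟩)
  have h1 : P.height ≤ 1 := FlatLoc6.height_le_one_of_mem_ass_quot hS2 hreg hdP hP
  have hne0 : P.height ≠ 0 := fun h => hd0 (by
    have := Ideal.height_eq_zero_iff_eq_bot.1 h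
    rw [this] at hdP
    exact hdP)
  have hP1 : P.height = 1 := le_antisymm h1 (Order.one_le_iff_ne_zero.2 hne0)
  let p := P.under B
  have hdim := (DimFormula.dimension_formula B (⟨P, inferInstance⟩ : PrimeSpectrum N)).2
    (DimFormula.isUniversallyCatenary_localization hB p.primeCompl _)
  rw [fd_eq_zero_of_finite, fd_eq_zero_of_finite, Nat.cast_zero, add_zero, add_zero,
    ← PrimeSpectrum.height_eq_orderHeight, ← PrimeSpectrum.height_eq_orderHeight] at hdim
  have hp1 : p.height = 1 := hdim.symm.trans hP1
  obtain ⟨s, hs, a, ha⟩ := hT hx p hp1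
  refine hs (show algebraMap B N s ∈ P from hann _ ?_)
  rw [← Submodule.Quotient.mk_smul, Submodule.Quotient.mk_eq_zero]
  refine ⟨algebraMap B N a, Submodule.mem_top, ?_⟩
  refine IsFractionRing.injective N K ?_
  show algebraMap N K (d * algebraMap B N a) = algebraMap N K (algebraMap B N s * c)
  rw [map_mul, map_mul, ← IsScalarTower.algebraMap_apply B N K, ← IsScalarTower.algebraMap_apply B N K, ha]
  have hdK : algebraMap N K d ≠ 0 := fun h => hd0 (IsFractionRing.injective N K (h.trans (map_zero _).symm))
  refine (mul_left_comm _ _ _).trans ?_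
  exact congrArg _ (mul_div_cancel₀ _ hdK)

/-- `A^(1)` is a finite algebra. -/
theorem heightOneHullFinite (B : Type u) [CommRing B] [IsDomain B] [IsNoetherianRing B]
    (hB : CAlg.IsUniversallyCatenary B) (hint : Module.Finite B (integralClosure B (FractionRing B))) :
    EGA4.HeightOneHullFinite B := by
  let T : Subalgebra B (FractionRing B) :=
    { carrier := EGA4.heightOneHull B
      mul_mem' := by
        intro x y hx hy p hp h
        obtain ⟨s, hs, a, ha⟩ := hx p h
        obtain ⟨t, ht, b, hb⟩ := hy p h
        exact ⟨s * t, hp.mul_notMem hs ht, a * b, by rw [map_mul, map_mul, ha, hb]; ring⟩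
      add_mem' := by
        intro x y hx hy p hp h
        obtain ⟨s, hs, a, ha⟩ := hx p h
        obtain ⟨t, ht, b, hb⟩ := hy p h
        exact ⟨s * t, hp.mul_notMem hs ht, a * t + b * s, by
          rw [map_add, map_mul, map_mul, map_mul, ha, hb]; ring⟩
      algebraMap_mem' := fun r p hp _ => ⟨1, fun h => hp.ne_top ((Ideal.eq_top_iff_one p).2 h), r, by simp⟩ }
  exact ⟨T, rfl, finite_of_le_heightOneHull B hB hint T le_rfl⟩

end Groth.Agent.SecFin
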