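import Groth.Agent.LC.LiaisonRows
import Groth.Agent.LC.GorRing
import Mathlib.RingTheory.Localization.FractionRing
import Mathlib.RingTheory.Ideal.AssociatedPrime.Localization

/-!
# Finiteness of sections outside codimension two, below a Cohen–Macaulay ring
-/

set_option autoImplicit false
set_option linter.style.haveILetI false

namespace Groth.Agent.SecFin

universe u

/-- The sections over the complement of `V(J)`, as a subset of the fraction field. -/
def secSet (B : Type u) [CommRing B] [IsDomain B] (J : Ideal B) : Set (FractionRing B) :=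
  {x | ∀ (p : Ideal B) [p.IsPrime], ¬ J ≤ p →
    ∃ s : B, s ∉ p ∧ ∃ a : B, algebraMap B (FractionRing B) a = algebraMap B (FractionRing B) s * x}

/-- The sections as a subalgebra. -/
def secAlg (B : Type u) [CommRing B] [IsDomain B] (J : Ideal B) : Subalgebra B (FractionRing B) where
  carrier := secSet B J
  mul_mem' := by
    intro x y hx hy p hp hJ
    obtain ⟨s, hs, a, ha⟩ := hx p hJ
    obtain ⟨t, ht, b, hb⟩ := hy p hJ
    exact ⟨s * t, hp.mul_notMem hs ht, a * b, by rw [map_mul, map_mul, ha, hb]; ring⟩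
  add_mem' := by
    intro x y hx hy p hp hJ
    obtain ⟨s, hs, a, ha⟩ := hx p hJ
    obtain ⟨t, ht, b, hb⟩ := hy p hJ
    exact ⟨s * t, hp.mul_notMem hs ht, a * t + b * s, by
      rw [map_add, map_mul, map_mul, map_mul, ha, hb]; ring⟩
  algebraMap_mem' := fun r p hp _ => ⟨1, fun h => hp.ne_top ((Ideal.eq_top_iff_one p).2 h), r, by simp⟩

theorem coe_secAlg (B : Type u) [CommRing B] [IsDomain B] (J : Ideal B) :
    (secAlg B J : Set (FractionRing B)) = secSet B J := rfl

theorem mem_ass_of_minimal {C : Type u} [CommRing C] [IsNoetherianRing C] {p : Ideal C} (h : p ∈ minimalPrimes C) :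
    p ∈ associatedPrimes C C :=
  Module.associatedPrimes.minimalPrimes_annihilator_subset_associatedPrimes (R := C) (M := C)
    (by rw [Module.annihilator_eq_bot.2 inferInstance]; exact h)

/-- A prime of a Gorenstein ring is minimal in some Gorenstein quotient. -/
theorem exists_gorenstein_quotient {R : Type u} [CommRing R] [IsNoetherianRing R] [LocCoh.IsGorensteinRing R]
    (Q : Ideal R) [Q.IsPrime] :
    ∃ c : Ideal R, c ≤ Q ∧ LocCoh.IsGorensteinRing (R ⧸ c) ∧ Q ∈ c.minimalPrimes := by
  suffices key : ∀ c : Ideal R, c ≤ Q → LocCoh.IsGorensteinRing (R ⧸ c) →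
      ∃ c' : Ideal R, c' ≤ Q ∧ LocCoh.IsGorensteinRing (R ⧸ c') ∧ Q ∈ c'.minimalPrimes from
    key ⊥ bot_le (LC.gorensteinRing_of_ringEquiv (RingEquiv.quotientBot R).symm inferInstance)
  intro c
  induction c using WellFoundedGT.induction with
  | _ c ih =>
    intro hcQ hG
    by_cases hmin : Q ∈ c.minimalPrimes
    · exact ⟨c, hcQ, hG, hmin⟩
    haveI := hG
    haveI := LC.Liaison.isCohenMacaulayRing_of_gorenstein (R ⧸ c)
    have hfin : (associatedPrimes R (R ⧸ c)).Finite := associatedPrimes.finite ..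
    obtain ⟨f, hfQ, hf⟩ : ∃ f ∈ Q, ∀ p ∈ associatedPrimes R (R ⧸ c), f ∉ p := by
      by_contra hne
      push Not at hne
      have hsub : (Q : Set R) ⊆ ⋃ p ∈ associatedPrimes R (R ⧸ c), (p : Set R) := fun a ha => by
        obtain ⟨p, hp, hap⟩ := hne a ha
        exact Set.mem_iUnion₂.mpr ⟨p, hp, hap⟩
      obtain ⟨p, hp, hle⟩ := (Ideal.subset_union_prime_finite (f := id) hfin ⊥ ⊥ fun p hp _ _ => hp.isPrime).1 hsub
      have h1 := LC.Liaison.minimal_of_ass_quot c hp
      exact hmin (le_antisymm hle (h1.2 ⟨‹Q.IsPrime›, hcQ⟩ hle) ▸ h1)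
    have hreg : IsSMulRegular (R ⧸ c) (Ideal.Quotient.mk c f) := by
      intro a b hab
      obtain ⟨a, rfl⟩ := Ideal.Quotient.mk_surjective a
      obtain ⟨b, rfl⟩ := Ideal.Quotient.mk_surjective b
      simp only [smul_eq_mul, ← map_mul, Ideal.Quotient.eq] at hab ⊢
      by_contra hne
      obtain ⟨p, hp, hle⟩ := Alg6.exists_ass_ge (R := R) (z := Ideal.Quotient.mk c (a - b))
        (fun h => hne (Ideal.Quotient.eq_zero_iff_mem.1 h))
      refine hf p hp (hle f ?_)
      show Ideal.Quotient.mk c (f * (a - b)) = 0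
      rw [Ideal.Quotient.eq_zero_iff_mem, mul_sub]
      exact hab
    have hfc : f ∉ c := fun h => by
      obtain ⟨p, hp, -⟩ := Alg6.exists_ass_ge (R := R) (z := Ideal.Quotient.mk c 1) (fun h1 => by
        rw [Ideal.Quotient.eq_zero_iff_mem] at h1
        exact (Ideal.IsPrime.ne_top ‹Q.IsPrime›) ((Ideal.eq_top_iff_one _).2 (hcQ h1)))
      exact hf p hp (LC.Liaison.le_of_ass hp h)
    refine ih (c ⊔ Ideal.span {f}) (lt_of_le_of_ne le_sup_left fun h => hfc ?_)
      (sup_le hcQ ((Ideal.span_singleton_le_iff_mem _).2 hfQ)) ?_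
    · rw [h]
      exact Ideal.mem_sup_right (Ideal.mem_span_singleton_self f)
    refine LC.gorensteinRing_of_surjective (Ideal.Quotient.factor (le_sup_left (b := Ideal.span {f})))
      (Ideal.Quotient.factor_surjective _) hreg ?_
    rw [Ideal.Quotient.factor_ker, Ideal.map_sup, Ideal.map_quotient_self, bot_sup_eq, Ideal.map_span,
      Set.image_singleton]

/-- Sections outside a closed set of codimension two are finite when the base is a component of a
Cohen–Macaulay ring. -/
theorem finite_secAlg_of_CM {C B : Type u} [CommRing C] [LocCoh.IsCohenMacaulayRing C] [CommRing B] [IsDomain B]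
    (π : C →+* B) (hπ : Function.Surjective π) (hmin : RingHom.ker π ∈ minimalPrimes C) (J : Ideal B)
    (hJ : (2 : ℕ∞) ≤ J.height) : Module.Finite B (secAlg B J) := by
  letI : Algebra C B := π.toAlgebra
  let P := RingHom.ker π
  haveI : P.IsPrime := hmin.1.1
  let K := FractionRing B
  let ι : C →+* K := (algebraMap B K).comp π
  have hι : ∀ c, ι c = 0 ↔ c ∈ P := fun c => by
    rw [RingHom.comp_apply, IsFractionRing.to_map_eq_zero_iff, RingHom.mem_ker]
  let J₁ := J.comap π
  have hprimes : ∀ T : Ideal C, T.IsPrime → J₁ ≤ T → (2 : ℕ∞) ≤ T.height := by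
    intro T hT hle
    haveI := hT
    have hk : RingHom.ker π ≤ T := (Ideal.ker_le_comap π).trans hle
    haveI : (T.map π).IsPrime := Ideal.map_isPrime_of_surjective hπ hk
    have h1 : J ≤ T.map π := (Ideal.map_comap_of_surjective π hπ J).ge.trans (Ideal.map_mono hle)
    refine hJ.trans ((Ideal.height_mono h1).trans ?_)
    rw [(⟨_, inferInstance⟩ : PrimeSpectrum B).height_eq_orderHeight, (⟨T, hT⟩ : PrimeSpectrum C).height_eq_orderHeight]
    refine (Order.height_le_height_apply_of_strictMono _ (RingHom.strictMono_comap_of_surjective hπ) _).trans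
      (le_of_eq (congrArg _ (PrimeSpectrum.ext ?_)))
    show (T.map π).comap π = T
    rw [Ideal.comap_map_of_surjective _ hπ, ← RingHom.ker_eq_comap_bot, sup_eq_left.2 hk]
  -- a regular element of `J₁`
  have hfin : (associatedPrimes C C).Finite := associatedPrimes.finite ..
  obtain ⟨a, haJ, ha⟩ : ∃ a ∈ J₁, ∀ p ∈ associatedPrimes C C, a ∉ p := by
    by_contra hne
    push Not at hne
    have hsub : (J₁ : Set C) ⊆ ⋃ p ∈ associatedPrimes C C, (p : Set C) := fun x hx => by
      obtain ⟨p, hp, hxp⟩ := hne x hx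
      exact Set.mem_iUnion₂.mpr ⟨p, hp, hxp⟩
    obtain ⟨p, hp, hle⟩ := (Ideal.subset_union_prime_finite (f := id) hfin ⊥ ⊥ fun p hp _ _ => hp.isPrime).1 hsub
    haveI := hp.isPrime
    have h2 := hprimes p hp.isPrime hle
    rw [Ideal.height_eq_zero_iff.2 (LC.Liaison.minimal_of_ass hp)] at h2
    simp at h2
  have hareg : IsSMulRegular C a := by
    intro u v huv
    by_contra hne
    obtain ⟨p, hp, hle⟩ := Alg6.exists_ass_ge (R := C) (z := u - v) (sub_ne_zero.2 hne)
    exact ha p hp (hle a (by rw [smul_sub]; exact sub_eq_zero.2 huv))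
  have hapow : ∀ k : ℕ, IsSMulRegular C (a ^ k) := fun k => hareg.pow k
  -- an element regular modulo the powers of `a`
  have hfin2 : (Ideal.span {a}).minimalPrimes.Finite := Ideal.finite_minimalPrimes_of_isNoetherianRing C _
  obtain ⟨b, hbJ, hb⟩ : ∃ b ∈ J₁, ∀ p ∈ (Ideal.span {a}).minimalPrimes, b ∉ p := by
    by_contra hne
    push Not at hne
    have hsub : (J₁ : Set C) ⊆ ⋃ p ∈ (Ideal.span {a}).minimalPrimes, (p : Set C) := fun x hx => by
      obtain ⟨p, hp, hxp⟩ := hne x hx
      exact Set.mem_iUnion₂.mpr ⟨p, hp, hxp⟩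
    obtain ⟨p, hp, hle⟩ := (Ideal.subset_union_prime_finite (f := id) hfin2 ⊥ ⊥ fun p hp _ _ => hp.1.1).1 hsub
    haveI := hp.1.1
    have h2 := (hprimes p hp.1.1 hle).trans (Ideal.height_le_one_of_isPrincipal_of_mem_minimalPrimes (Ideal.span {a}) p hp)
    exact absurd h2 (by decide)
  have hbreg : ∀ (k : ℕ) (y : C), b * y ∈ Ideal.span {a ^ k} → y ∈ Ideal.span {a ^ k} := by
    intro k y hy
    by_contra hne
    obtain ⟨p, hp, hle⟩ := Alg6.exists_ass_ge (R := C) (z := Ideal.Quotient.mk (Ideal.span {a ^ k}) y)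
      (fun h => hne (Ideal.Quotient.eq_zero_iff_mem.1 h))
    obtain ⟨hpp, z, hz⟩ := LC.Liaison.mem_ass_iff'.1 hp
    haveI := hpp
    have hakp : a ^ k ∈ p := LC.Liaison.le_of_ass hp (Ideal.mem_span_singleton_self _)
    have h1 : p.height = 1 := LC.Liaison.height_eq_one_of_ass_regular (hapow k) hakp z hz
    have hbp : b ∈ p := hle b (by
      show Ideal.Quotient.mk (Ideal.span {a ^ k}) (b * y) = 0
      exact Ideal.Quotient.eq_zero_iff_mem.2 hy)
    refine hb p ⟨⟨hpp, (Ideal.span_singleton_le_iff_mem _).2 (hpp.mem_of_pow_mem k hakp)⟩, fun q hq hqp => ?_⟩ hbp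
    by_contra hne'
    haveI := hq.1
    have hlt := Ideal.height_strict_mono_of_isPrime_of_isPrime (lt_of_le_not_ge hqp hne')
    rw [h1, Order.lt_one_iff, Ideal.height_eq_zero_iff] at hlt
    exact ha q (mem_ass_of_minimal hlt) ((Ideal.span_singleton_le_iff_mem _).1 hq.2)
  have hbreg' : ∀ (j k : ℕ) (y : C), b ^ j * y ∈ Ideal.span {a ^ k} → y ∈ Ideal.span {a ^ k} := by
    intro j
    induction j with
    | zero => intro k y hy; simpa using hy
    | succ j ih => exact fun k y hy => hbreg k y (ih k _ (by rwa [← mul_assoc, ← pow_succ]))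
  -- an element with annihilator the minimal prime
  obtain ⟨-, z, hz⟩ := Alg6.mem_ass_iff.1 (mem_ass_of_minimal hmin)
  -- denominators
  have hden : ∀ (c : C), c ∈ J₁ → ∀ x ∈ secSet B J, ∃ k : ℕ, ∃ r : C, ι r = ι (c ^ k) * x := by
    intro c hc x hx
    let D : Ideal B :=
      { carrier := {d | ∃ e : B, algebraMap B K e = algebraMap B K d * x}
        zero_mem' := ⟨0, by simp⟩
        add_mem' := by
          rintro d d' ⟨e, he⟩ ⟨e', he'⟩
          exact ⟨e + e', by rw [map_add, map_add, he, he']; ring⟩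
        smul_mem' := by
          rintro w d ⟨e, he⟩
          exact ⟨w * e, by rw [smul_eq_mul, map_mul, map_mul, he]; ring⟩ }
    have hrad : π c ∈ D.radical := by
      rw [Ideal.radical_eq_sInf, Ideal.mem_sInf]
      rintro p ⟨hDp, hp⟩
      by_contra hcp
      obtain ⟨s, hs, e, he⟩ := hx p (fun hle => hcp (hle hc))
      exact hs (hDp ⟨e, he⟩)
    obtain ⟨k, e, he⟩ := hrad
    obtain ⟨r, rfl⟩ := hπ e
    exact ⟨k, r, by simpa [ι] using he⟩
  have key : ∀ x : secAlg B J, ∃ v : C, ∀ (k : ℕ) (r : C), ι r = ι (a ^ k) * x → a ^ k * v = r * z := by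
    intro x
    have hx : (x : K) ∈ secSet B J := x.2
    obtain ⟨k, r, hr⟩ := hden a haJ x hx
    obtain ⟨l, s, hs⟩ := hden b hbJ x hx
    have hP : b ^ l * r - a ^ k * s ∈ P := by
      rw [← hι, map_sub, map_mul, map_mul, hr, hs]
      ring
    have h1 : b ^ l * (r * z) = a ^ k * (s * z) := by
      have h2 : (b ^ l * r - a ^ k * s) * z = 0 := by simpa using (hz _).1 hP
      linear_combination h2
    obtain ⟨v, hv⟩ := Ideal.mem_span_singleton'.1 (hbreg' l k (r * z)
      (h1 ▸ Ideal.mul_mem_right _ _ (Ideal.mem_span_singleton_self _)))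
    refine ⟨v, fun k' r' hr' => ?_⟩
    have hP' : a ^ k * r' - a ^ k' * r ∈ P := by
      rw [← hι, map_sub, map_mul, map_mul, hr, hr']
      ring
    have h3 : (a ^ k * r' - a ^ k' * r) * z = 0 := by simpa using (hz _).1 hP'
    refine hapow k ?_
    show a ^ k * (a ^ k' * v) = a ^ k * (r' * z)
    linear_combination a ^ k' * hv - h3
  choose Φ hΦ using key
  have hex : ∀ x : secAlg B J, ∃ k : ℕ, ∃ r : C, ι r = ι (a ^ k) * x := fun x => hden a haJ x x.2
  have hkey : ∀ (x : secAlg B J) (v : C) (k : ℕ) (r : C), ι r = ι (a ^ k) * x → a ^ k * v = r * z → Φ x = v := by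
    intro x v k r hr hv
    refine hapow k ?_
    show a ^ k * Φ x = a ^ k * v
    rw [hv, hΦ x k r hr]
  let Ψ : secAlg B J →ₗ[C] C :=
    { toFun := Φ
      map_add' := fun x y => by
        obtain ⟨k, r, hr⟩ := hex x
        obtain ⟨l, s, hs⟩ := hex y
        refine hkey _ _ (k + l) (a ^ l * r + a ^ k * s) ?_ ?_
        · rw [map_add, map_mul, map_mul, hr, hs, pow_add, map_mul, Subalgebra.coe_add]
          ring
        · have h1 := hΦ x k r hr
          have h2 := hΦ y l s hs
          rw [pow_add]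
          linear_combination a ^ l * h1 + a ^ k * h2
      map_smul' := fun c x => by
        obtain ⟨k, r, hr⟩ := hex x
        refine hkey _ _ k (c * r) ?_ ?_
        · show ι (c * r) = ι (a ^ k) * (c • (x : K))
          rw [map_mul, hr, Algebra.smul_def, IsScalarTower.algebraMap_apply C B K,
            show algebraMap B K (algebraMap C B c) = ι c from rfl]
          ring
        · simp only [RingHom.id_apply, smul_eq_mul]
          linear_combination c * hΦ x k r hr }
  have hinj : Function.Injective Ψ := by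
    rw [injective_iff_map_eq_zero]
    intro x hx
    obtain ⟨k, r, hr⟩ := hex x
    have h1 := hΦ x k r hr
    rw [show Φ x = 0 from hx, mul_zero] at h1
    have hrP : r ∈ P := (hz r).2 h1.symm
    rw [(hι r).2 hrP, eq_comm, mul_eq_zero] at hr
    refine Subtype.ext (hr.resolve_left fun h0 => ?_)
    exact ha P (mem_ass_of_minimal hmin)
      ((‹P.IsPrime›).mem_of_pow_mem k ((hι _).1 h0))
  haveI : Module.Finite C (secAlg B J) := Module.Finite.of_injective Ψ hinj
  exact Module.Finite.of_restrictScalars_finite C B _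

/-- Sections outside codimension two on an integral closed subscheme of a regular scheme are finite. -/
theorem finite_secAlg_of_regular {R B : Type u} [CommRing R] [IsNoetherianRing R] [IsRegularRing R] [CommRing B]
    [IsDomain B] (π : R →+* B) (hπ : Function.Surjective π) (J : Ideal B) (hJ : (2 : ℕ∞) ≤ J.height) :
    Module.Finite B (secAlg B J) := by
  haveI := LC.gorensteinRing_of_isRegularRing R
  haveI : (RingHom.ker π).IsPrime := RingHom.ker_isPrime π
  obtain ⟨c, hc, hG, hmin⟩ := exists_gorenstein_quotient (RingHom.ker π)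
  haveI := hG
  haveI := LC.Liaison.isCohenMacaulayRing_of_gorenstein (R ⧸ c)
  refine finite_secAlg_of_CM (Ideal.Quotient.lift c π fun x hx => hc hx)
    (Ideal.Quotient.lift_surjective_of_surjective _ _ hπ) ⟨⟨RingHom.ker_isPrime _, bot_le⟩, fun q hq hle => ?_⟩ J hJ
  haveI := hq.1
  intro x hx
  obtain ⟨x, rfl⟩ := Ideal.Quotient.mk_surjective x
  have h1 : q.comap (Ideal.Quotient.mk c) ≤ RingHom.ker π := fun y hy => hle hy
  exact hmin.2 ⟨inferInstance, fun y hy => by
    rw [Ideal.mem_comap, Ideal.Quotient.eq_zero_iff_mem.2 hy]; exact q.zero_mem⟩ h1 hx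

end Groth.Agent.SecFin
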